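import Cfsg.Agent.H839.GT.ETwoB
import Cfsg.Agent.H752.GT.ETwoC
import Cfsg.Agent.H403.GT.Ea
import Cfsg.Agent.H294.G2.TI
import Cfsg.Agent.H779.G2.Stmts4

/-!
# S5211, [G2-Q2-E]: `q = 2`: the essential subgroups are `Q_a`, `Q_b` (helper242)

Plan: `outputs/live/tools/plans/S5211.md`, section 12.
-/

set_option autoImplicit false

namespace Cfsg.Agent.H242.GT

open Cfsg Cfsg.FusionSystem Cfsg.Agent.H802 Cfsg.Agent.H779.G2 Cfsg.Agent.H756.PU Cfsg.Agent.H103.GT Cfsg.Agent.H710.GT

universe u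

variable {K : Type u} [Field K]

/-- the two elements of `K` -/
theorem zero_or_one (H : HypG K 2 1) (x : K) : x = 0 ∨ x = 1 := by
  classical
  have hf : Finite K := H.fin
  have : Fintype K := Fintype.ofFinite K
  by_cases hx : x = 0
  · exact Or.inl hx
  · right
    have h1 := FiniteField.pow_card_sub_one_eq_one x hx
    rw [← Nat.card_eq_fintype_card, H.card] at h1
    simpa using h1

theorem card_K (H : HypG K 2 1) : Nat.card K = 2 := by rw [H.card]; rfl

/-- `Q ≥ E` with `[Q, E] ≤ Z ≤ E` normalizes `E` -/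
theorem le_norm' {E A N : Subgroup (GU K)} (hN : N ≤ E) (h : Com A E N) : A ≤ normalizerIn ⊤ E := by
  intro x hx
  refine Subgroup.mem_inf.2 ⟨Subgroup.mem_top _, ?_⟩
  have h1 : ∀ w ∈ A, ∀ e ∈ E, w * e * w⁻¹ ∈ E := by
    intro w hw e he
    have h2 : w * e * w⁻¹ = w * e * w⁻¹ * e⁻¹ * e := by group
    rw [h2]
    exact E.mul_mem (hN (h w hw e he)) he
  rw [Subgroup.mem_normalizer_iff]
  intro e
  refine ⟨h1 x hx e, fun h => ?_⟩
  have h2 := h1 x⁻¹ (A.inv_mem hx) _ h
  rwa [inv_inv, ← mul_assoc, ← mul_assoc, inv_mul_cancel, one_mul, inv_mul_cancel_right] at h2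

/-- the bound: `|A : E|² ≤ |E|` for `E ≤ A ≤ N_S(E)` -/
theorem bound_card (hB : StBound'.{u}) [Finite K] {E A : Subgroup (GU K)} {Γ : Subgroup (MulAut E)}
    (hE : Ess (⊤ : Subgroup (GU K)) E 2 Γ) (hA : A ≤ normalizerIn ⊤ E) :
    (E.relIndex A) ^ 2 ≤ (frattini E).index ∧ (E.relIndex A) ^ 2 ≤ Nat.card E := by
  have h1 : (E.relIndex A) ^ 2 ≤ (frattini E).index := by
    refine le_trans (Nat.pow_le_pow_left ?_ 2) (hB hE)
    exact Subgroup.relIndex_le_of_le_right hA (Subgroup.index_ne_zero_of_finite)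
  refine ⟨h1, h1.trans ?_⟩
  rw [← (frattini E).card_mul_index]
  exact Nat.le_mul_of_pos_left _ Nat.card_pos

/-- `E ≤ Q_a` -/
theorem e_a (hB : StBound'.{u}) (H : HypG K 2 1) {E : Subgroup (GU K)} {Γ : Subgroup (MulAut E)}
    (hE : Ess (⊤ : Subgroup (GU K)) E 2 Γ) (hEa : E ≤ Qa K) : E = Qa K := by
  have : Finite K := H.fin
  have hch : CharP K 2 := H.char
  have h2 : (2 : K) = 0 := CharTwo.two_eq_zero
  have h3 : (3 : K) ≠ 0 := by
    have : (3 : K) = 1 := by linear_combination h2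
    rw [this]; exact one_ne_zero
  have hq : Nat.card K = 2 := card_K H
  have hZ1E : Z1 K ≤ E := fun z hz => hE.cent z trivial fun e _ => (comm_Z1 e hz).symm
  have hcomQ : Com (Qa K) E (Z1 K) := fun x hx e he => com_Qa x hx e (hEa he)
  have hnorm : Qa K ≤ normalizerIn ⊤ E := le_norm' hZ1E hcomQ
  by_cases hab : ∃ x ∈ E, ∃ y ∈ E, H403.GT.om x y ≠ 0
  · obtain ⟨x, hx, y, hy, hxy⟩ := hab
    have hinv : Inv Γ (Z1 K) := by
      refine ⟨hZ1E, fun γ hγ e he => ?_⟩
      rcases zero_or_one H (e : GU K).f with hf | hf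
      · have h1 : e = 1 := by
          apply Subtype.ext
          obtain ⟨k1, k2, k3, k4, k5⟩ := mem_Z1.1 he
          exact GU.ext k1 k2 k3 k4 k5 hf
        rw [h1, map_one]
        exact one_mem _
      · have h1 : e = (⟨x, hx⟩ : E) * ⟨y, hy⟩ * (⟨x, hx⟩ : E)⁻¹ * (⟨y, hy⟩ : E)⁻¹ := by
          apply Subtype.ext
          have h4 := H403.GT.comm_eq (hEa hx) (hEa hy)
          have h5 : H403.GT.om x y = 1 := (zero_or_one H _).resolve_left hxy
          rw [h5] at h4
          show (e : GU K) = x * y * x⁻¹ * y⁻¹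
          rw [h4]
          obtain ⟨k1, k2, k3, k4, k5⟩ := mem_Z1.1 he
          exact GU.ext k1 k2 k3 k4 k5 hf
        rw [h1, map_mul, map_mul, map_mul, map_inv, map_inv]
        exact com_Qa _ (hEa (γ _).2) _ (hEa (γ _).2)
    refine le_antisymm hEa ?_
    refine H732.PU.stChain hE (Z1 K) (Z1 K) (Z1 K) hinv hinv hinv le_rfl le_rfl (Qa K) le_top hcomQ ?_ ?_ ?_
    · exact fun x hx m hm => hcomQ x hx m (hZ1E hm)
    · exact fun x hx m hm => hcomQ x hx m (hZ1E hm)
    · exact fun x _ m hm => comm_Z1 x hm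
  · exfalso
    push Not at hab
    have hmem : ∀ x : GU K, x.a = 0 → (∀ z ∈ E, H403.GT.om x z = 0) → x ∈ E := by
      intro x hx h
      exact hE.cent x trivial fun e he => (H403.GT.commute_iff hx (hEa he)).2 (h e he)
    have hscl : ∀ x ∈ E, ∀ l t : K, H403.GT.scl l t x ∈ E := by
      intro x hx l t
      apply hmem _ rfl
      intro z hz
      rw [H403.GT.om_scl', hab x hx z hz, mul_zero]
    set W : Submodule K (Fin 4 → K) :=
      { carrier := {v | ∃ x ∈ E, H403.GT.pr x = v}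
        add_mem' := by
          rintro _ _ ⟨x, hx, rfl⟩ ⟨y, hy, rfl⟩
          exact ⟨x * y, mul_mem hx hy, H403.GT.pr_mul (hEa hx) (hEa hy)⟩
        zero_mem' := ⟨1, one_mem _, by
          funext i
          fin_cases i <;> rfl⟩
        smul_mem' := by
          rintro l _ ⟨x, hx, rfl⟩
          exact ⟨H403.GT.scl l 0 x, hscl x hx l 0, H403.GT.pr_scl l 0 x⟩ } with hW
    have hiso : W ≤ (H403.GT.B4 K).orthogonal W := by
      rintro _ ⟨x, hx, rfl⟩ _ ⟨y, hy, rfl⟩
      exact hab y hy x hx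
    have hfr : Module.finrank K W ≤ 2 := by
      have h1 := Submodule.finrank_mono hiso
      rw [LinearMap.BilinForm.finrank_orthogonal (H403.GT.B4_nondeg h3), Module.finrank_fin_fun] at h1
      omega
    have hcW : Nat.card W ≤ Nat.card K ^ 2 := by
      rw [Module.natCard_eq_pow_finrank (K := K)]
      exact Nat.pow_le_pow_right (by omega) hfr
    have hcE : Nat.card E ≤ Nat.card K ^ 3 := by
      have hinj : Function.Injective
          (fun x : E => ((⟨H403.GT.pr (x : GU K), x, x.2, rfl⟩ : W), (x : GU K).f)) := by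
        intro x y hxy
        simp only [Prod.mk.injEq, Subtype.mk.injEq] at hxy
        apply Subtype.ext
        have k0 := congrFun hxy.1 0
        have k1 := congrFun hxy.1 1
        have k2 := congrFun hxy.1 2
        have k3 := congrFun hxy.1 3
        exact GU.ext ((hEa x.2 : (x : GU K).a = 0).trans (hEa y.2 : (y : GU K).a = 0).symm) k0 k1 k2 k3 hxy.2
      calc Nat.card E ≤ Nat.card (W × K) := Nat.card_le_card_of_injective _ hinj
        _ = Nat.card W * Nat.card K := Nat.card_prod _ _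
        _ ≤ Nat.card K ^ 2 * Nat.card K := Nat.mul_le_mul_right _ hcW
        _ = Nat.card K ^ 3 := by ring
    rw [hq] at hcE
    have h4 : E.relIndex (Qa K) * Nat.card E = 32 := by
      rw [mul_comm, H403.GT.card_mul_relIndex' hEa, H403.GT.card_Qa, hq]
      norm_num
    have h5 := (bound_card hB hE hnorm).2
    have h6 : 4 ≤ E.relIndex (Qa K) := by
      by_contra hlt
      push Not at hlt
      have : E.relIndex (Qa K) * Nat.card E ≤ 3 * 8 := Nat.mul_le_mul (by omega) hcE
      omega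
    have h7 : 4 ^ 2 ≤ (E.relIndex (Qa K)) ^ 2 := Nat.pow_le_pow_left h6 2
    omega

theorem alg_C (h01 : ∀ x : K, x = 0 ∨ x = 1) (h11 : (1 : K) + 1 = 0) (a c d u v : K) (hv : u ≠ 0 ∨ v ≠ 0)
    (h : (a * v + c * u = 0 ∧ (d + a * c) * u = 1 * a ∧ (d + a * c) * v = 1 * c) ∨
      (a * v + c * u = 1 ∧ d + a * c = 1)) : d = a + c := by
  rcases h01 a with rfl | rfl <;> rcases h01 c with rfl | rfl <;> rcases h01 d with rfl | rfl <;>
    rcases h01 u with rfl | rfl <;> rcases h01 v with rfl | rfl <;> simp [h11] at hv h ⊢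

theorem alg_comm (h01 : ∀ x : K, x = 0 ∨ x = 1) (h11 : (1 : K) + 1 = 0) (a c u v : K) :
    (a + c + a * c + (a * v + c * u)) * u + (u + v + u * v + (a * v + c * u)) * a = 0 ∧
      (a + c + a * c + (a * v + c * u)) * v + (u + v + u * v + (a * v + c * u)) * c = 0 := by
  rcases h01 a with rfl | rfl <;> rcases h01 c with rfl | rfl <;>
    rcases h01 u with rfl | rfl <;> rcases h01 v with rfl | rfl <;> simp [h11]

/-- `E ≤ Q_b`, `E ≰ Q_a` -/
theorem e_b (hB : StBound'.{u}) (H : HypG K 2 1) {E : Subgroup (GU K)} {Γ : Subgroup (MulAut E)}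
    (hE : Ess (⊤ : Subgroup (GU K)) E 2 Γ) (hEb : E ≤ Qb K) (hEa : ¬ E ≤ Qa K) : E = Qb K := by
  classical
  have hKfin : Finite K := H.fin
  have hch : CharP K 2 := H.char
  have h2 : (2 : K) = 0 := CharTwo.two_eq_zero
  have hq : Nat.card K = 2 := card_K H
  have hbE : ∀ g ∈ E, g.b = 0 := fun g hg => hEb hg
  have hEp : IsPGroup 2 E := hE.pgr.to_le hE.E_le
  have hone : ∀ x : K, x ≠ 0 → x = 1 := fun x hx => (zero_or_one H x).resolve_left hx
  have h11 : (1 : K) + 1 = 0 := by linear_combination h2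
  -- the centre
  set Z := E ⊓ Subgroup.centralizer (E : Set (GU K)) with hZ
  have hZE : Z ≤ E := inf_le_left
  have hZ2E : Z2 K ≤ E := fun z hz => hE.cent z trivial fun e he => (comm_Qb_Z2 (hEb he) hz).symm
  have hZ2Z : Z2 K ≤ Z := fun z hz => Subgroup.mem_inf.mpr ⟨hZ2E hz,
    Subgroup.mem_centralizer_iff.mpr fun y hy => comm_Qb_Z2 (hEb hy) hz⟩
  have hinv : Inv Γ Z := H839.GT.inv_center Γ
  have hX : Qb K ⊓ Subgroup.centralizer (Z : Set (GU K)) ≤ E := by
    have hc : Com (Qb K ⊓ Subgroup.centralizer (Z : Set (GU K))) Z Z := by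
      intro x hx z hz
      have := (Subgroup.mem_centralizer_iff.mp hx.2) z hz
      rw [show x * z * x⁻¹ * z⁻¹ = 1 by rw [← this]; group]
      exact one_mem _
    refine Cfsg.Agent.H732.PU.stChain hE Z Z Z hinv hinv hinv le_rfl le_rfl _ le_top ?_ hc hc ?_
    · intro x hx e he
      exact hZ2Z (H752.GT.com_Qb2 h2 x hx.1 e (hEb he))
    · intro x hx z hz
      exact ((Subgroup.mem_centralizer_iff.mp hx.2) z hz).symm
  have hmem : ∀ x : GU K, x.b = 0 → (∀ z ∈ Z, x * z = z * x) → x ∈ E := by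
    intro x hx h
    apply hX
    exact Subgroup.mem_inf.mpr ⟨hx, Subgroup.mem_centralizer_iff.mpr fun z hz => (h z hz).symm⟩
  have hcomm : ∀ x ∈ E, ∀ z ∈ Z, x * z = z * x := fun x hx z hz =>
    (Subgroup.mem_centralizer_iff.mp hz.2) x hx
  have hnorm : Qb K ≤ normalizerIn ⊤ E :=
    le_norm' hZ2E fun x hx e he => H752.GT.com_Qb2 h2 x hx e (hEb he)
  have hr1 : E.relIndex (Qb K) * Nat.card E = 32 := by
    rw [mul_comm, H839.GT.card_mul_relIndex hEb, card_Qb, hq]
    norm_num
  by_contra hne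
  obtain ⟨g1, hg1, hg1a⟩ : ∃ g ∈ E, g.a ≠ 0 := by
    by_contra hcon
    push Not at hcon
    exact hEa fun g hg => hcon g hg
  -- the elements of the centre
  have hv : ∀ y ∈ Z, y ∉ Z2 K → y.a ≠ 0 ∨ y.c ≠ 0 := by
    intro y hy hy2
    by_contra hcon
    push Not at hcon
    obtain ⟨ha, hc⟩ := hcon
    have hd : y.d ≠ 0 := fun hd => hy2 ⟨ha, hbE y (hZE hy), hc, hd⟩
    have h3 := ((H839.GT.commute_iff h2 (hbE g1 hg1) (hbE y (hZE hy))).1 (hcomm g1 hg1 y hy)).1
    unfold H839.GT.ds H839.GT.dt at h3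
    rw [ha, hc] at h3
    simp only [mul_zero, add_zero, zero_add] at h3
    rcases mul_eq_zero.1 h3 with h4 | h4
    · exact hd h4
    · exact hg1a h4
  -- an element of the centre outside `Z₂`
  obtain ⟨y, hy, hy2⟩ : ∃ y ∈ Z, y ∉ Z2 K := by
    by_contra hcon
    push Not at hcon
    exact hne (le_antisymm hEb fun x hx => hmem x hx fun z hz => comm_Qb_Z2 hx (hcon z hz))
  have hyb := hbE y (hZE hy)
  have hvy := hv y hy hy2
  have hca : ∀ g ∈ E, (H839.GT.dt g y = 0 ∧ H839.GT.ds g * y.a = H839.GT.ds y * g.a ∧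
      H839.GT.ds g * y.c = H839.GT.ds y * g.c) ∨ (H839.GT.dt g y = H839.GT.ds y ∧ H839.GT.ds g = H839.GT.ds y) :=
    fun g hg => H839.GT.cases_of_commute h2 (hbE g hg) hyb (hcomm g hg y hy) hvy
  obtain ⟨g0, hg0, hg0d⟩ : ∃ g ∈ E, H839.GT.dt g y ≠ 0 := by
    by_contra hcon
    push Not at hcon
    -- then `|E| ≤ 8`
    have hcase : ∀ g ∈ E, H839.GT.ds g * y.a = H839.GT.ds y * g.a ∧ H839.GT.ds g * y.c = H839.GT.ds y * g.c := by
      intro g hg
      rcases hca g hg with h3 | ⟨h3, h4⟩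
      · exact h3.2
      · rw [hcon g hg] at h3
        rw [h4, ← h3]
        simp
    have hya : y.a ≠ 0 := by
      intro h0
      have h3 := hcon g1 hg1
      unfold H839.GT.dt at h3
      rw [h0, mul_zero, add_zero] at h3
      rcases mul_eq_zero.1 h3 with h4 | h4
      · exact hg1a h4
      · rcases hvy with h5 | h5
        · exact h5 h0
        · exact h5 h4
    have hinj : Function.Injective (fun x : E => ((x : GU K).a, (x : GU K).e, (x : GU K).f)) := by
      intro x z hxz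
      simp only [Prod.mk.injEq] at hxz
      obtain ⟨e1, e2, e3⟩ := hxz
      have k1 := hcon x x.2
      have k2 := hcon z z.2
      unfold H839.GT.dt at k1 k2
      rw [e1] at k1
      have k3 : (x : GU K).c = (z : GU K).c := by
        apply mul_right_cancel₀ hya
        linear_combination k1 - k2
      have k4 : H839.GT.ds (x : GU K) = H839.GT.ds (z : GU K) := by
        apply mul_right_cancel₀ hya
        rw [(hcase x x.2).1, (hcase z z.2).1, e1]
      exact Subtype.ext (H839.GT.ext_ds e1 ((hbE x x.2).trans (hbE z z.2).symm) k3 k4 e2 e3)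
    have hcard : Nat.card E ≤ 8 := by
      calc Nat.card E ≤ Nat.card (K × K × K) := Nat.card_le_card_of_injective _ hinj
        _ = 8 := by rw [Nat.card_prod, Nat.card_prod, hq]
    have h5 := (bound_card hB hE hnorm).2
    have h6 : 4 ≤ E.relIndex (Qb K) := by
      by_contra hlt
      push Not at hlt
      have : E.relIndex (Qb K) * Nat.card E ≤ 3 * 8 := Nat.mul_le_mul (by omega) hcard
      omega
    have h7 : 4 ^ 2 ≤ (E.relIndex (Qb K)) ^ 2 := Nat.pow_le_pow_left h6 2
    omega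
  have hg0' : H839.GT.dt g0 y = H839.GT.ds y ∧ H839.GT.ds g0 = H839.GT.ds y :=
    (hca g0 hg0).resolve_left fun h => hg0d h.1
  have hδ : H839.GT.ds y = 1 := hone _ (by rw [← hg0'.1]; exact hg0d)
  -- `E = {b = 0, d = a + c}`
  have hEC : ∀ g ∈ E, g.d = g.a + g.c := by
    intro g hg
    have h3 := hca g hg
    rw [hδ] at h3
    exact alg_C (zero_or_one H) h11 g.a g.c g.d y.a y.c hvy h3
  -- `E` is normal
  have hCE : ∀ g : GU K, g.b = 0 → g.d = g.a + g.c → g ∈ E := by
    intro g hgb hgd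
    refine hmem g hgb fun z hz => ?_
    have hzE := hZE hz
    refine (H839.GT.commute_iff h2 hgb (hbE z hzE)).2 ?_
    unfold H839.GT.ds H839.GT.dt
    rw [hgd, hEC z hzE]
    exact alg_comm (zero_or_one H) h11 g.a g.c z.a z.c
  have hS : (⊤ : Subgroup (GU K)) ≤ normalizerIn ⊤ E := by
    have key : ∀ x y : GU K, y ∈ E → x * y * x⁻¹ ∈ E := by
      intro x y hyE
      refine hCE _ ?_ ?_
      · rw [cj_b]; exact hbE y hyE
      · rw [cj_d, cj_a, cj_c, hbE y hyE, hEC y hyE]
        rcases zero_or_one H y.a with ya | ya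
        · rw [ya]
          linear_combination (-x.a * y.c) * h2
        · rw [ya]
          linear_combination (-x.a * x.b - x.a * y.c + x.c) * h2
    intro x _
    refine Subgroup.mem_inf.2 ⟨trivial, Subgroup.mem_normalizer_iff.2 fun z => ⟨fun hz => key x z hz, fun hz => ?_⟩⟩
    have := key x⁻¹ _ hz
    rwa [show x⁻¹ * (x * z * x⁻¹) * x⁻¹⁻¹ = z by group] at this
  -- the order of `E`
  have hcard : Nat.card E = 16 := by
    have hinj : Function.Injective (fun x : E => ((x : GU K).a, (x : GU K).c, (x : GU K).e, (x : GU K).f)) := by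
      intro x z hxz
      simp only [Prod.mk.injEq] at hxz
      obtain ⟨e1, e2, e3, e4⟩ := hxz
      refine Subtype.ext (GU.ext e1 ((hbE x x.2).trans (hbE z z.2).symm) e2 ?_ e3 e4)
      rw [hEC x x.2, hEC z z.2, e1, e2]
    have h16 : Nat.card (K × K × K × K) = 16 := by rw [Nat.card_prod, Nat.card_prod, Nat.card_prod, hq]
    refine le_antisymm ((Nat.card_le_card_of_injective _ hinj).trans h16.le) ?_
    rw [← h16]
    refine Nat.card_le_card_of_injective
      (fun t : K × K × K × K => (⟨⟨t.1, 0, t.2.1, t.1 + t.2.1, t.2.2.1, t.2.2.2⟩, hCE _ rfl rfl⟩ : E)) ?_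
    rintro ⟨t1, t2, t3, t4⟩ ⟨s1, s2, s3, s4⟩ hts
    have h4 := congrArg Subtype.val hts
    have e1 : t1 = s1 := congrArg GU.a h4
    have e2 : t2 = s2 := congrArg GU.c h4
    have e3 : t3 = s3 := congrArg GU.e h4
    have e4 : t4 = s4 := congrArg GU.f h4
    rw [e1, e2, e3, e4]
  have h5 := (bound_card hB hE hS).1
  have h6 : E.relIndex (⊤ : Subgroup (GU K)) * 16 = 64 := by
    rw [← hcard, mul_comm, H839.GT.card_mul_relIndex le_top]
    rw [Subgroup.card_top, GU.card_eq, hq]
    norm_num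
  have h7 : E.relIndex (⊤ : Subgroup (GU K)) = 4 := by omega
  rw [h7] at h5
  have h8 := (frattini E).card_mul_index
  rw [hcard] at h8
  have h9 : Nat.card (frattini E) = 1 := by
    have h10 : 1 ≤ Nat.card (frattini E) := Nat.card_pos
    nlinarith
  have h12 : (⟨y, hZE hy⟩ : E) ^ 2 ∈ frattini E := Cfsg.Agent.Lib.FrattiniPGroup.pow_mem_frattini hEp _
  rw [Subgroup.card_eq_one.1 h9, Subgroup.mem_bot] at h12
  have h13 : y ^ 2 = 1 := congrArg Subtype.val h12
  rw [H839.GT.sq_eq h2 hyb, hδ, one_mul, one_mul] at h13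
  have e5 := congrArg GU.e h13
  have e6 := congrArg GU.f h13
  rcases hvy with h | h
  · exact h e5
  · exact h e6

/-- `E ≰ Q_a`, `E ≰ Q_b` -/
theorem e_c (H : HypG K 2 1) {E : Subgroup (GU K)} {Γ : Subgroup (MulAut E)}
    (hE : Ess (⊤ : Subgroup (GU K)) E 2 Γ) (hb : ¬ E ≤ Qb K) (ha : ¬ E ≤ Qa K) : Qb K ≤ E ∧ Inv Γ (Qb K) := by
  have := H.fin
  have := H.char
  have h2 : (2 : K) = 0 := CharTwo.two_eq_zero
  have h3 : (3 : K) ≠ 0 := by
    have : (3 : K) = 1 := by linear_combination h2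
    rw [this]; exact one_ne_zero
  obtain ⟨x, hx, xa, xb⟩ := exists_both hb ha
  have hZ1E : Z1 K ≤ E := fun y hy => hE.cent y trivial fun e _ => (comm_Z1 e hy).symm
  have iE := inv_self Γ (E := E)
  -- the square of an element outside `Q_a ∪ Q_b`
  have hsqc : ∀ y : GU K, y * y = 1 → y.b * y.a = 0 := by
    intro y h
    have h4 := congrArg GU.c h
    rw [GU.mul_c, GU.one_c] at h4
    linear_combination h4 - y.c * h2
  have hinvsq : ∀ γ : MulAut E, ∀ e : E, e * e = 1 → ((γ e : E) : GU K) * ((γ e : E) : GU K) = 1 := by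
    intro γ e he
    have h4 := congrArg γ he
    rw [map_mul, map_one] at h4
    exact congrArg Subtype.val h4
  -- (C1)
  have hZ2 : Z2 K ≤ E := by
    set Z : Subgroup (GU K) := E ⊓ Subgroup.centralizer (E : Set (GU K)) with hZ
    let M : Subgroup (GU K) :=
      { carrier := {y | y ∈ Z ∧ y * y = 1}
        one_mem' := ⟨one_mem _, one_mul 1⟩
        mul_mem' := by
          rintro s t ⟨hs, hs'⟩ ⟨ht, ht'⟩
          refine ⟨mul_mem hs ht, ?_⟩
          have h4 : s * t = t * s := (Subgroup.mem_centralizer_iff.1 ht.2) s hs.1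
          calc s * t * (s * t) = s * t * (t * s) := by rw [← h4]
            _ = s * (t * t) * s := by group
            _ = 1 := by rw [ht', mul_one, hs']
        inv_mem' := by
          rintro s ⟨hs, hs'⟩
          refine ⟨inv_mem hs, ?_⟩
          rw [← mul_inv_rev, hs', inv_one] }
    have hMm : ∀ y, y ∈ M ↔ y ∈ Z ∧ y * y = 1 := fun y => Iff.rfl
    have hMZ : M ≤ Z := fun y hy => hy.1
    have iZ : Inv Γ Z := H839.GT.inv_center Γ
    have iM : Inv Γ M := by
      refine ⟨hMZ.trans inf_le_left, fun γ hγ e he => ⟨iZ.2 γ hγ e he.1, hinvsq γ e (Subtype.ext he.2)⟩⟩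
    have hZ1M : Z1 K ≤ M := by
      intro y hy
      refine ⟨Subgroup.mem_inf.2 ⟨hZ1E hy, Subgroup.mem_centralizer_iff.2 fun e _ => comm_Z1 e hy⟩, ?_⟩
      obtain ⟨z1, z2, z3, z4, z5⟩ := mem_Z1.1 hy
      ext <;> simp only [GU.mul_a, GU.mul_b, GU.mul_c, GU.mul_d, GU.mul_e, GU.mul_f,
        GU.one_a, GU.one_b, GU.one_c, GU.one_d, GU.one_e, GU.one_f, z1, z2, z3, z4, z5]
      all_goals first | ring1 | linear_combination y.f * h2
    have hMb : M ≤ Qb K := by
      intro z hz
      by_contra hzb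
      have hzb' : z.b ≠ 0 := hzb
      obtain ⟨⟨hzE, hzc⟩, hz2⟩ := (hMm z).1 hz
      have e1 : z * x * z⁻¹ * x⁻¹ = 1 := by
        rw [← (Subgroup.mem_centralizer_iff.1 hzc) x hx]; group
      rcases H752.GT.par h2 (g := z) (h := x) (by rw [e1]; rfl) (by rw [e1]; rfl) xa xb with h | h
      · exact hzb' h.2
      · have h4 := hsqc z hz2
        rw [h.1, h.2] at h4
        rcases mul_eq_zero.1 h4 with h5 | h5
        · exact xb h5
        · exact xa h5
    refine H732.PU.stChain hE M M M iM iM iM le_rfl le_rfl (Z2 K) le_top ?_ ?_ ?_ ?_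
    · exact fun y hy e _ => hZ1M (com_Z2_top y hy e trivial)
    · exact fun y hy e _ => hZ1M (com_Z2_top y hy e trivial)
    · exact fun y hy e _ => hZ1M (com_Z2_top y hy e trivial)
    · exact fun y hy m hm => (comm_Qb_Z2 (hMb hm) hy).symm
  -- (C2) `Z₁` is invariant
  have i1 : Inv Γ (Z1 K) := by
    refine ⟨hZ1E, fun γ hγ e he => ?_⟩
    have hc := H752.GT.inv_el (inv_bot Γ) hγ (e := e) (fun b _ => cm_one.2 (comm_Z1 b he).symm)
    have hsq : e * e = 1 := by
      apply Subtype.ext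
      obtain ⟨z1, z2, z3, z4, z5⟩ := mem_Z1.1 he
      ext <;> simp only [Subgroup.coe_mul, Subgroup.coe_one, GU.mul_a, GU.mul_b, GU.mul_c, GU.mul_d, GU.mul_e, GU.mul_f,
        GU.one_a, GU.one_b, GU.one_c, GU.one_d, GU.one_e, GU.one_f, z1, z2, z3, z4, z5]
      all_goals first | ring1 | linear_combination (e : GU K).f * h2
    have hyE := (γ e).2
    have hsq' := congrArg GU.f (hinvsq γ e hsq)
    generalize ((γ e : E) : GU K) = y at hc hyE hsq'
    have hyb : y.b = 0 := cent_Z2.1 fun z hz => cm_one.1 (hc z (hZ2 hz))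
    have e1 := Subgroup.mem_bot.1 (hc x hx)
    have f1 := congrArg GU.c e1
    rw [cm_c, hyb, GU.one_c] at f1
    have hya : y.a = 0 := (mul_eq_zero.1 (show y.a * x.b = 0 by linear_combination -f1)).resolve_right xb
    have f2 := congrArg GU.e e1
    rw [cm_e, hyb, hya, GU.one_e] at f2
    have hyd : y.d = y.c * x.a := by
      apply mul_left_cancel₀ (mul_ne_zero h3 xa)
      linear_combination f2
    rw [GU.mul_f, hyb, hya, hyd, GU.one_f] at hsq'
    have hyc : y.c = 0 := by
      have : y.c * y.c * x.a = 0 := by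
        apply mul_left_cancel₀ h3
        linear_combination hsq' - y.f * h2
      rcases mul_eq_zero.1 this with h | h
      · exact mul_self_eq_zero.1 h
      · exact absurd h xa
    rw [hyc, zero_mul] at hyd
    have f3 := congrArg GU.f e1
    rw [cm_f, hyb, hya, hyc, hyd, GU.one_f] at f3
    have hye : y.e = 0 := (mul_eq_zero.1 (show y.e * x.b = 0 by linear_combination -f3)).resolve_right xb
    exact ⟨hya, hyb, hyc, hyd, hye⟩
  -- `Z₂` is invariant
  have i2 : Inv Γ (Z2 K) := by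
    refine ⟨hZ2, fun γ hγ e he => ?_⟩
    have hc := H752.GT.inv_el i1 hγ (e := e) (fun b _ => com_Z2_top _ he b trivial)
    have hsq : e * e = 1 := by
      apply Subtype.ext
      obtain ⟨z1, z2, z3, z4⟩ := mem_Z2.1 he
      ext <;> simp only [Subgroup.coe_mul, Subgroup.coe_one, GU.mul_a, GU.mul_b, GU.mul_c, GU.mul_d, GU.mul_e, GU.mul_f,
        GU.one_a, GU.one_b, GU.one_c, GU.one_d, GU.one_e, GU.one_f, z1, z2, z3, z4]
      all_goals first | ring1 | linear_combination (e : GU K).f * h2 | linear_combination (e : GU K).e * h2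
    have hyE := (γ e).2
    have hsq0 := hinvsq γ e hsq
    generalize ((γ e : E) : GU K) = y at hc hyE hsq0
    have hsq' := congrArg GU.f hsq0
    have hy4 : y ∈ Z4 K := by
      have e1 := hc x hx
      rcases H752.GT.par h2 e1.2.2.1 e1.2.2.2.1 xa xb with h | h
      · exact h
      · have h4 := hsqc y hsq0
        rw [h.1, h.2] at h4
        rcases mul_eq_zero.1 h4 with h5 | h5
        · exact absurd h5 xb
        · exact absurd h5 xa
    obtain ⟨hya, hyb⟩ := mem_Z4.1 hy4
    have f2 := (hc x hx).2.2.2.2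
    rw [cm_e, hyb, hya] at f2
    have hyd : y.d = y.c * x.a := by
      apply mul_left_cancel₀ (mul_ne_zero h3 xa)
      linear_combination f2
    rw [GU.mul_f, hyb, hya, hyd, GU.one_f] at hsq'
    have hyc : y.c = 0 := by
      have : y.c * y.c * x.a = 0 := by
        apply mul_left_cancel₀ h3
        linear_combination hsq' - y.f * h2
      rcases mul_eq_zero.1 this with h | h
      · exact mul_self_eq_zero.1 h
      · exact absurd h xa
    rw [hyc, zero_mul] at hyd
    exact ⟨hya, hyb, hyc, hyd⟩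
  -- (C3)
  have h4 : Z4 K ≤ E := by
    refine H732.PU.stChain hE (Z2 K) (Z2 K) (Z2 K) i2 i2 i2 le_rfl le_rfl (Z4 K) le_top ?_ ?_ ?_ ?_
    · exact fun y hy e _ => H752.GT.com_Z4_top2 h2 y hy e trivial
    · exact fun y hy e _ => H752.GT.com_Z4_top2 h2 y hy e trivial
    · exact fun y hy e _ => H752.GT.com_Z4_top2 h2 y hy e trivial
    · exact fun y hy m hm => comm_Qb_Z2 (Z4_le_Qb hy) hm
  -- (C4)
  have ib : Inv Γ (E ⊓ Qb K) := by
    refine inv_cent iE i2 (inv_bot Γ) fun y => ⟨fun hy => ?_, fun hy => ?_⟩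
    · exact ⟨hy.1, fun b hb' => cm_one.2 (comm_Qb_Z2 hy.2 hb')⟩
    · exact ⟨hy.1, cent_Z2.1 fun z hz => cm_one.1 (hy.2 z hz)⟩
  have h6 : Qb K ≤ E := by
    refine H732.PU.stChain hE (Z2 K) (Z2 K) (E ⊓ Qb K) i2 i2 ib le_rfl (le_inf hZ2 Z2_le_Qb) (Qb K) le_top
      ?_ ?_ ?_ ?_
    · intro y _ e _
      have h7 : y * e * y⁻¹ * e⁻¹ ∈ Z4 K := com_top_top y trivial e trivial
      exact ⟨h4 h7, Z4_le_Qb h7⟩
    · exact fun y hy e he => H752.GT.com_Qb2 h2 y hy e he.2
    · exact fun y hy e he => H752.GT.com_Qb2 h2 y hy e (Z2_le_Qb he)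
    · exact fun y hy m hm => comm_Qb_Z2 hy hm
  refine ⟨h6, ?_⟩
  rwa [inf_eq_right.2 h6] at ib

/-- **(Q2-E)** -/
theorem stE21_of (hB : StBound'.{u}) (hEss : StEss.{u}) (hOver : StOver.{u}) : StE21.{u} := by
  intro K _ _ H F hF E hE
  have hfin : Finite K := H.fin
  have hS : IsPGroup 2 (⊤ : Subgroup (GU K)) := by
    refine IsPGroup.of_card (n := 6) ?_
    rw [Subgroup.card_top, GU.card_eq, card_K H]
  have he : Ess (⊤ : Subgroup (GU K)) E 2 (F.autGroup E) := hEss F E hS hF hE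
  by_cases ha : E ≤ Qa K
  · exact Or.inl (e_a hB H he ha)
  right
  by_cases hb : E ≤ Qb K
  · exact e_b hB H he hb ha
  · obtain ⟨h1, h2⟩ := e_c H he hb ha
    have hn : (⊤ : Subgroup (GU K)) ≤ Subgroup.normalizer (Qb K : Set (GU K)) := by
      rw [Subgroup.normalizer_eq_top]
    have hC : centralizerIn ⊤ (Qb K) ≤ Qb K := by
      rintro x ⟨-, hx⟩
      have h4 := congrArg GU.c (Subgroup.mem_centralizer_iff.1 hx (x1 1) (x1_mem 1))
      simp only [GU.mul_c, x1] at h4
      show x.b = 0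
      linear_combination -h4
    exact hOver F (Qb K) E hS hF hE h1 hn hC
      (H294.G2.tiB H (autInducedBy_le_autGroup F le_top) (syl_of_normal hS hF hn)) h2

end Cfsg.Agent.H242.GT
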